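import Cfsg.Agent.Lib.Spor.MonsterLocal.ThreeClass
import Cfsg.Agent.Lib.Spor.CoBig.Main
import Cfsg.Agent.Lib.Spor.CoBig.TriData

/-!
Elements of order three of the monomial group central in a Sylow subgroup are conjugate to the chosen one.
-/

set_option autoImplicit false
set_option maxRecDepth 100000

namespace Cfsg.Agent.Spor.MonsterLarge

open Cfsg Cfsg.Agent.Spor.MonsterFusion
open MonsterLocal (pgroup_meet fac_mul_two conj_of_image monPerm monPerm_spec monPerm_surj monPerm_ker syl
  sylThree syl_ok card_syl)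
open scoped Pointwise

local notation "Zv" => GolayPt → ℤ
set_option quotPrecheck false in
local notation "Lv" => ↥leechLattice

theorem central_fixes : ∀ l ∈ sylThree, (sylThree.all fun a => lmul a l == lmul l a) = true → l ≠ List.range 24 →
    ∃ i : Fin 24, l.getD i 0 = i := by decide +kernel

theorem tri_fix_card : (Finset.univ.filter fun q : GolayPt => CoBig.triDat.sx q = q).card = 6 := by decide +kernel

theorem fac_m24 : (244823040 : ℕ).factorization 3 = 3 := by
  rw [show (244823040 : ℕ) = 3 ^ 3 * 9067520 by norm_num, Nat.factorization_mul (by norm_num) (by norm_num),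
    Finsupp.add_apply, Nat.Prime.factorization_pow Nat.prime_three, Finsupp.single_eq_same,
    Nat.factorization_eq_zero_of_not_dvd (by norm_num)]

/-- central elements of order three of a subgroup of order 27 have six fixed points -/
theorem central_six {x : M24} (hx : orderOf x = 3) {R : Subgroup M24} (hR : Nat.card R = 27) (hxR : x ∈ R)
    (hc : ∀ u ∈ R, u * x = x * u) : (fixSet (x : Equiv.Perm GolayPt)).card = 6 := by
  classical
  haveI : Fact (Nat.Prime 3) := ⟨Nat.prime_three⟩
  obtain ⟨h0, -⟩ | ⟨h6, -⟩ := three_by_fix x.2 (by rw [Subgroup.orderOf_coe]; exact hx)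
  swap
  · exact h6
  exfalso
  have hM : Nat.card M24 = 244823040 := card_M24
  obtain ⟨t, ht⟩ := MulAction.exists_smul_eq M24
    (Sylow.ofCard R (p := 3) (by rw [hM, fac_m24, hR]; rfl))
    (Sylow.ofCard syl (p := 3) (by rw [hM, fac_m24, card_syl]; rfl))
  have e : R.map (MulAut.conj t).toMonoidHom = syl := congrArg (fun S : Sylow 3 M24 => (S : Subgroup M24)) ht
  have hy : MulAut.conj t x ∈ syl := e ▸ ⟨x, hxR, rfl⟩
  obtain ⟨l, hl, hlx⟩ := hy
  obtain ⟨hall, -, -, -, -, hcl⟩ := syl_ok
  have hlo := m24ok_lok (List.all_eq_true.1 hall l hl)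
  have hcent : (sylThree.all fun a => lmul a l == lmul l a) = true := by
    refine List.all_eq_true.2 fun a ha => beq_iff_eq.2 ?_
    have hao := m24ok_lok (List.all_eq_true.1 hall a ha)
    have hal := List.all_eq_true.1 hcl a ha
    simp only [Bool.and_eq_true, List.all_eq_true] at hal
    have hla := List.all_eq_true.1 hcl l hl
    simp only [Bool.and_eq_true, List.all_eq_true] at hla
    have h1 := List.elem_iff.1 (hal.1.1 l hl)
    have h2 := List.elem_iff.1 (hla.1.1 a ha)
    refine lperm_inj_on (m24ok_lok (List.all_eq_true.1 hall _ h1)) (m24ok_lok (List.all_eq_true.1 hall _ h2)) ?_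
    rw [lperm_lmul hao hlo (m24ok_lok (List.all_eq_true.1 hall _ h1)),
      lperm_lmul hlo hao (m24ok_lok (List.all_eq_true.1 hall _ h2)), ← hlx]
    have hu : (⟨lperm a, lperm_mem (List.all_eq_true.1 hall a ha)⟩ : M24) ∈ R.map (MulAut.conj t).toMonoidHom :=
      e ▸ ⟨a, ha, rfl⟩
    obtain ⟨u, hu, hue⟩ := hu
    rw [show lperm a = ((MulAut.conj t u : M24) : Equiv.Perm GolayPt) from (congrArg Subtype.val hue).symm,
      ← Subgroup.coe_mul, ← Subgroup.coe_mul, ← map_mul, ← map_mul, hc u hu]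
  have hne : l ≠ List.range 24 := fun h => by
    rw [h, lperm_id] at hlx
    have h1 : MulAut.conj t x = 1 := Subtype.ext hlx
    rw [MulEquiv.map_eq_one_iff] at h1
    rw [h1, orderOf_one] at hx
    omega
  obtain ⟨i, hi⟩ := central_fixes l hl hcent hne
  have hfix : pt i ∈ fixSet (lperm l) := by
    rw [mem_fixSet_lperm hlo, idx_pt _ i.2]
    exact hi
  have h0' : (fixSet (lperm l)).card = 0 := by
    rw [← hlx, MulAut.conj_apply, Subgroup.coe_mul, Subgroup.coe_mul, InvMemClass.coe_inv, card_fixSet_conj, h0]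
  rw [Finset.card_eq_zero] at h0'
  rw [h0'] at hfix
  exact absurd hfix (Finset.notMem_empty _)

theorem tri_alt (O : CoBig.triDat.Ok) {g : ↥Co0} (hg : g ∈ monoSub) (h3 : orderOf g = 3)
    {S : Subgroup ↥Co0} (hS : S ≤ monoSub) (hgS : g ∈ S) (hSc : Nat.card S = 27) (hcent : ∀ u ∈ S, u * g = g * u) :
    ∃ h ∈ monoSub, h * g * h⁻¹ = O.fix.pel := by
  classical
  haveI := co0_finite
  haveI : Fact (Nat.Prime 3) := ⟨Nat.prime_three⟩
  haveI : Fact (Nat.Prime 2) := ⟨Nat.prime_two⟩
  set gm : monoSub := ⟨g, hg⟩ with hgm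
  have hgo : orderOf gm = 3 := by rw [← Subgroup.orderOf_coe]; exact h3
  have hg3 : gm ^ 3 = 1 := by rw [← hgo, pow_orderOf_eq_one]
  have hne : monPerm gm ≠ 1 := fun e => by
    have h := pgroup_meet (p := 3) Nat.prime_three rfl (H := Subgroup.zpowers gm)
      (IsPGroup.of_card (n := 1) (by rw [Nat.card_zpowers, hgo, pow_one])) monPerm_ker (Subgroup.mem_zpowers gm) e
    rw [h, orderOf_one] at hgo
    omega
  have hσ3 : orderOf (monPerm gm) = 3 := orderOf_eq_prime (by rw [← map_pow, hg3, map_one]) hne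
  have hS' : Nat.card (S.subgroupOf monoSub) = 27 :=
    (Nat.card_congr (Subgroup.subgroupOfEquivOfLe hS).toEquiv).trans hSc
  have hS3 : IsPGroup 3 (S.subgroupOf monoSub) := IsPGroup.of_card (n := 3) (by rw [hS']; rfl)
  let f : ↥(S.subgroupOf monoSub) →* M24 := monPerm.comp (S.subgroupOf monoSub).subtype
  have hf : Function.Injective f := (injective_iff_map_eq_one f).2 fun u hu =>
    Subtype.ext (pgroup_meet Nat.prime_three rfl hS3 monPerm_ker u.2 hu)
  have h6 : (fixSet ((monPerm gm : M24) : Equiv.Perm GolayPt)).card = 6 := by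
    refine central_six hσ3 (R := f.range) ?_ ⟨⟨gm, hgS⟩, rfl⟩ ?_
    · rw [← hS']; exact (Nat.card_congr (MonoidHom.ofInjective hf).toEquiv).symm
    · rintro _ ⟨u, rfl⟩
      show monPerm u.1 * monPerm gm = monPerm gm * monPerm u.1
      rw [← map_mul, ← map_mul]
      exact congrArg monPerm (Subtype.ext (hcent _ u.2))
  set pm : monoSub := ⟨O.fix.pel, by
    rw [mem_monoSub]
    exact mono_std (σ := CoBig.triDat.sigma) (w := 0) fun v => by
      rw [O.fix.pel_spec]; funext p; simp [sgn]⟩ with hpm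
  have hpmσ : monPerm pm = ⟨CoBig.triDat.sigma, O.fix.mem⟩ :=
    monPerm_spec (w := 0) fun v => by
      show ((O.fix.pel • v : Lv) : Zv) = _
      rw [O.fix.pel_spec]; funext p; simp [sgn]
  have hpo : orderOf pm = 3 := by
    rw [← Subgroup.orderOf_coe]
    exact orderOf_eq_prime O.fix.pel_pow O.fix.pel_ne
  have hσo : orderOf CoBig.triDat.sigma = 3 := by
    refine orderOf_eq_prime O.fix.sigma_pow fun e => ?_
    obtain ⟨i, hi⟩ := O.fix.moves
    rw [← O.fix.sigma_apply, e, Equiv.Perm.one_apply] at hi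
    exact hi rfl
  have hσ6 : (fixSet CoBig.triDat.sigma).card = 6 := by
    rw [← tri_fix_card]
    congr 1
  obtain ⟨h0, -⟩ | ⟨-, k1, hk1, e1⟩ := three_by_fix (monPerm gm).2 (by rw [Subgroup.orderOf_coe]; exact hσ3)
  · omega
  obtain ⟨h0, -⟩ | ⟨-, k2, hk2, e2⟩ := three_by_fix (g := CoBig.triDat.sigma) O.fix.mem hσo
  · omega
  obtain ⟨c, hc, hce⟩ := conj_trans hk1 hk2 e1 e2
  obtain ⟨cm, hcm⟩ := monPerm_surj ⟨c, hc⟩
  have himg : monPerm (cm * gm * cm⁻¹) = monPerm pm := by
    rw [map_mul, map_mul, map_inv, hcm, hpmσ]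
    exact Subtype.ext hce
  obtain ⟨t, ht⟩ := conj_of_image monPerm monPerm_ker Nat.prime_three rfl
    (by rw [show cm * gm * cm⁻¹ = MulAut.conj cm gm from rfl, MulEquiv.orderOf_eq, hgo]) hpo himg
  refine ⟨((t * cm : monoSub) : ↥Co0), (t * cm).2, ?_⟩
  have := congrArg Subtype.val ht
  simp only [Subgroup.coe_mul, InvMemClass.coe_inv] at this ⊢
  rw [← show O.fix.pel = ((pm : monoSub) : ↥Co0) from rfl] at this
  rw [← this, show ((gm : monoSub) : ↥Co0) = g from rfl]
  group

end Cfsg.Agent.Spor.MonsterLarge
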