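import Cfsg.Agent.Lib.Spor.MonsterLarge.Main
import Cfsg.Agent.Lib.Spor.MonsterLarge.ThreeClass
import Cfsg.Agent.Lib.Spor.CoBig.TriGroup

/-!
The centraliser of a central subgroup of order three of the joint centraliser, modulo it, is of large
Fischer type.
-/

set_option autoImplicit false
set_option maxRecDepth 100000

namespace Cfsg.Agent.Spor.MonsterLarge

open Cfsg Cfsg.Agent.Spor.MonsterFusion
open Co1Seven (pr)
open MonsterLocal (Joint jIncl exists_joint pgroup_meet card_classStab1)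
open scoped Pointwise

local notation "Zv" => GolayPt → ℤ
set_option quotPrecheck false in
local notation "Lv" => ↥leechLattice

theorem stab_tri {a : Cfsg.Spor.Co1} (ha : a ∈ classStab1 (e8 none)) (h3 : orderOf a = 3)
    (O : CoBig.triDat.Ok) {P : Subgroup Cfsg.Spor.Co1} (hP : P ≤ classStab1 (e8 none)) (haP : a ∈ P)
    (hPc : Nat.card P = 27) (hcent : ∀ u ∈ P, u * a = a * u) :
    ∃ t ∈ classStab1 (e8 none), t * a * t⁻¹ = O.beta := by
  haveI := co0_finite
  haveI : Fact (Nat.Prime 3) := ⟨Nat.prime_three⟩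
  haveI : Fact (Nat.Prime 2) := ⟨Nat.prime_two⟩
  obtain ⟨g0, hg0, rfl⟩ := ha
  rw [SetLike.mem_coe, classStab_e8] at hg0
  obtain ⟨m, hm⟩ := negation_exists
  have hmc := negation_mem_center hm
  have hmono : Subgroup.center ↥Co0 ≤ monoSub := by
    rw [← classStab_e8]; exact center_le_classStab _
  have hcz : g0 ^ 3 ∈ Subgroup.center ↥Co0 := (QuotientGroup.eq_one_iff _).1 (by
    show pr (g0 ^ 3) = 1
    rw [map_pow, ← h3]; exact pow_orderOf_eq_one _)
  obtain ⟨g, hg, hpr, hg3⟩ : ∃ g ∈ monoSub, pr g = pr g0 ∧ g ^ 3 = 1 := by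
    rcases center_cases hm hcz with e | e
    · exact ⟨g0, hg0, rfl, e⟩
    · refine ⟨g0 * m, mul_mem hg0 (hmono hmc), ?_, ?_⟩
      · rw [map_mul, show pr m = 1 from (QuotientGroup.eq_one_iff m).2 hmc, mul_one]
      · rw [(show Commute g0 m from Subgroup.mem_center_iff.1 hmc g0).mul_pow, e, pow_succ, sq]
        refine co0_ext fun v => ?_
        simp only [mul_smul, one_smul, hm, neg_neg]
  have hgne : g ≠ 1 := fun e => by
    have h1 : pr g0 = 1 := by rw [← hpr, e, map_one]
    rw [show QuotientGroup.mk' (Subgroup.center ↥Co0) g0 = 1 from h1, orderOf_one] at h3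
    omega
  have hgo : orderOf g = 3 := orderOf_eq_prime hg3 hgne
  let π : monoSub →* Cfsg.Spor.Co1 := pr.comp monoSub.subtype
  have hker : IsPGroup 2 π.ker := by
    have h : IsPGroup 2 (Subgroup.center ↥Co0) := IsPGroup.of_card (n := 1) (by rw [card_center, pow_one])
    exact (h.comap_of_injective monoSub.subtype Subtype.val_injective).to_le fun k hk =>
      (QuotientGroup.eq_one_iff (k : ↥Co0)).1 hk
  obtain ⟨S, hgS, hSc, hScent⟩ := MonsterLocal.central_lift π hker (p := 3) (m := 3) Nat.prime_three rfl (P := P)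
    (fun x hx => by
      obtain ⟨y, hy, rfl⟩ := hP hx
      rw [SetLike.mem_coe, classStab_e8] at hy
      exact ⟨⟨y, hy⟩, rfl⟩)
    (by rw [hPc]; rfl) (a := ⟨g, hg⟩) ⟨1, Subtype.ext (by rw [pow_one]; exact hg3)⟩
    (by show pr g ∈ P; rw [hpr]; exact haP) fun u hu => by
      show u * pr g = pr g * u
      rw [hpr]; exact hcent u hu
  obtain ⟨h, hh, e⟩ := tri_alt O hg hgo (S := S.map monoSub.subtype) (Subgroup.map_subtype_le _) ⟨_, hgS, rfl⟩
    (by rw [Subgroup.card_map_of_injective monoSub.subtype_injective, hSc]; rfl) (by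
      rintro _ ⟨u, hu, rfl⟩
      exact congrArg Subtype.val (hScent u hu))
  refine ⟨pr h, ⟨h, by rw [SetLike.mem_coe, classStab_e8]; exact hh, rfl⟩, ?_⟩
  rw [CoBig.Dat.Ok.beta, ← e, map_mul, map_mul, map_inv, hpr]
  rfl

theorem large_transfer {A : Type*} [Group A] {z' : A} {R : Subgroup (Subgroup.centralizer ({z'} : Set A))}
    [hRn : R.Normal] (hs : IsExtraspecialCentralizerSetting z' R 6) {K : Type*} [Group K] [Finite K]
    (iso : (Subgroup.centralizer ({z'} : Set A)) ⧸ R ≃* K) {N0 M0 : Subgroup K} [N0.Normal] [M0.Normal]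
    (hNM : N0 ≤ M0) (hN : Nat.card N0 = 3) (hM : M0.index = 2) (F : Type) [Field F] [Fintype F]
    (hF : Fintype.card F = 9) (φ : ↥M0 →* Cfsg.PSU 4 F 3) (hφ : Function.Surjective φ) (hk : φ.ker = N0.subgroupOf M0) :
    IsOfLargeFischerTypeAt z' R := by
  set π : ↥(Subgroup.centralizer ({z'} : Set A)) →* K := iso.toMonoidHom.comp (QuotientGroup.mk' R) with hπ
  have hsurj : Function.Surjective π := iso.surjective.comp (QuotientGroup.mk'_surjective R)
  have hker : π.ker = R := by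
    ext x
    rw [MonoidHom.mem_ker, hπ, MonoidHom.comp_apply, MulEquiv.coe_toMonoidHom, map_eq_one_iff _ iso.injective,
      QuotientGroup.mk'_apply, QuotientGroup.eq_one_iff]
  refine ⟨hs, N0.comap π, M0.comap π, inferInstance, inferInstance, ?_, Subgroup.comap_mono hNM, ?_,
    ⟨F, inferInstance, inferInstance, hF, ?_⟩, ?_⟩
  · exact hker ▸ fun x hx => by rw [Subgroup.mem_comap, MonoidHom.mem_ker.1 hx]; exact one_mem _
  · let g : ↥(N0.comap π) →* N0 := MonoidHom.mk' (fun x => ⟨π x, x.2⟩) fun a b => Subtype.ext (map_mul π _ _)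
    have hg : Function.Surjective g := fun y => by
      obtain ⟨x, hx⟩ := hsurj y
      exact ⟨⟨x, by rw [Subgroup.mem_comap, hx]; exact y.2⟩, Subtype.ext hx⟩
    rw [Subgroup.card_eq_card_quotient_mul_card_subgroup g.ker,
      Nat.card_congr (QuotientGroup.quotientKerEquivOfSurjective g hg).toEquiv, hN, ← hker]
    congr 1
    refine Nat.card_congr
      ⟨fun a => ⟨(a : ↥(N0.comap π)), MonoidHom.mem_ker.2 (congrArg Subtype.val a.2)⟩,
        fun a => ⟨⟨a, by rw [Subgroup.mem_comap, MonoidHom.mem_ker.1 a.2]; exact one_mem _⟩,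
          Subtype.ext (MonoidHom.mem_ker.1 a.2)⟩, fun _ => rfl, fun _ => rfl⟩
  · let f : ↥(M0.comap π) →* ↥M0 := MonoidHom.mk' (fun x => ⟨π x, x.2⟩) fun a b => Subtype.ext (map_mul π _ _)
    have hf : Function.Surjective f := fun y => by
      obtain ⟨x, hx⟩ := hsurj y
      exact ⟨⟨x, by rw [Subgroup.mem_comap, hx]; exact y.2⟩, Subtype.ext hx⟩
    refine ⟨(QuotientGroup.quotientMulEquivOfEq ?_).trans
      (QuotientGroup.quotientKerEquivOfSurjective (φ.comp f) (hφ.comp hf))⟩
    ext x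
    rw [MonoidHom.mem_ker, MonoidHom.comp_apply, ← MonoidHom.mem_ker, hk]
    rfl
  · rw [Subgroup.index_comap_of_surjective _ hsurj, hM]

variable {G : Type*} [Group G] [Finite G] {z s : G} {Q : Subgroup (Subgroup.centralizer ({z} : Set G))} [Q.Normal]

theorem tri_fischer_type (hM : IsOfMonsterType z Q)
    (hsQ : ∃ hsc : s ∈ Subgroup.centralizer ({z} : Set G), (⟨s, hsc⟩ : Subgroup.centralizer ({z} : Set G)) ∈ Q)
    (hs : IsConj z s) (hs1 : s ≠ z) {Y : Subgroup G} (hY : Y ≤ Subgroup.centralizer ({z, s} : Set G))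
    (hY3 : Nat.card Y = 3)
    (hc : ∃ P : Sylow 3 ↥(Subgroup.centralizer ({z, s} : Set G)),
      Y.subgroupOf (Subgroup.centralizer ({z, s} : Set G)) ≤
        (Subgroup.center ↥(P : Subgroup ↥(Subgroup.centralizer ({z, s} : Set G)))).map
          (P : Subgroup ↥(Subgroup.centralizer ({z, s} : Set G))).subtype)
    [hn : (Y.subgroupOf (Subgroup.centralizer (Y : Set G))).Normal] :
    IsOfLargeFischerType (↥(Subgroup.centralizer (Y : Set G)) ⧸ Y.subgroupOf (Subgroup.centralizer (Y : Set G))) := by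
  classical
  haveI := co0_finite
  haveI : Fact (Nat.Prime 3) := ⟨Nat.prime_three⟩
  obtain ⟨e, ψ, x0, J⟩ := exists_joint hM hsQ hs hs1
  haveI : IsCyclic Y := isCyclic_of_prime_card hY3
  obtain ⟨⟨b0, hb0⟩, hgen⟩ := IsCyclic.exists_generator (α := Y)
  have hb0o : orderOf b0 = 3 := by
    rw [← hY3, ← orderOf_eq_card_of_forall_mem_zpowers hgen, ← Subgroup.orderOf_coe]
  set c0 : ↥(Subgroup.centralizer ({z, s} : Set G)) := ⟨b0, hY hb0⟩ with hc0
  have hc03 : c0 ^ 3 = 1 := Subtype.ext (by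
    rw [SubmonoidClass.coe_pow, OneMemClass.coe_one, ← hb0o]; exact pow_orderOf_eq_one b0)
  have hc0o : orderOf c0 = 3 := by rw [← Subgroup.orderOf_coe]; exact hb0o
  set ρ := (proj e).comp (jIncl z s) with hρ
  have hρ0 : ρ c0 ≠ 1 := fun h => by
    have h1 := pgroup_meet (p := 3) Nat.prime_three rfl (H := Subgroup.zpowers c0)
      (IsPGroup.of_card (n := 1) (by rw [Nat.card_zpowers, hc0o, pow_one])) J.ker (Subgroup.mem_zpowers c0) h
    rw [h1, orderOf_one] at hc0o
    omega
  have hρo : orderOf (ρ c0) = 3 := orderOf_eq_prime (by rw [← map_pow, hc03, map_one]) hρ0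
  have h0 : ρ c0 ∈ classStab1 (e8 none) := by rw [← J.range]; exact ⟨c0, rfl⟩
  have hYz : Y = Subgroup.zpowers b0 := by
    refine (Subgroup.eq_of_le_of_card_ge (Subgroup.zpowers_le.2 hb0) ?_).symm
    rw [hY3, Nat.card_zpowers]
    exact le_of_eq hb0o.symm
  obtain ⟨PS, hPS⟩ := hc
  obtain ⟨⟨c0', hc0'⟩, hcc, hce⟩ := hPS (show c0 ∈ Y.subgroupOf (Subgroup.centralizer ({z, s} : Set G)) from hb0)
  subst hce
  have hfH : (2048 * 244823040 : ℕ).factorization 3 = 3 := by
    rw [show (2048 * 244823040 : ℕ) = 3 ^ 3 * (2048 * 9067520) by norm_num,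
      Nat.factorization_mul (by norm_num) (by norm_num), Finsupp.add_apply,
      Nat.Prime.factorization_pow Nat.prime_three, Finsupp.single_eq_same,
      Nat.factorization_eq_zero_of_not_dvd (by norm_num)]
  let f : ↥(PS : Subgroup ↥(Subgroup.centralizer ({z, s} : Set G))) →* Cfsg.Spor.Co1 := ρ.comp (PS : Subgroup ↥(Subgroup.centralizer ({z, s} : Set G))).subtype
  have hf : Function.Injective f := (injective_iff_map_eq_one f).2 fun u hu =>
    Subtype.ext (pgroup_meet Nat.prime_three rfl PS.2 J.ker u.2 hu)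
  set O := CoBig.tri_ok
  obtain ⟨t, ht, hconj⟩ := stab_tri h0 hρo O (P := f.range)
    (by rintro _ ⟨u, rfl⟩; rw [← J.range]; exact ⟨u.1, rfl⟩) ⟨⟨_, hc0'⟩, rfl⟩
    (by
      rw [← Nat.card_congr (MonoidHom.ofInjective hf).toEquiv, Sylow.card_eq_multiplicity,
        J.card_fac Nat.prime_three rfl, hfH]
      rfl)
    (by
      rintro _ ⟨u, rfl⟩
      have := congrArg f (Subgroup.mem_center_iff.1 hcc u)
      rw [map_mul, map_mul] at this
      exact this)
  obtain ⟨e', ψ', b, F, hb⟩ := joint_frame J O _ hc03 ht (j := 1) (by rw [zpow_one]; exact hconj)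
  have hYb : Y = Subgroup.zpowers (b : G) := by rw [hb]; exact hYz
  obtain ⟨z', R, hR, hset, ⟨iso⟩⟩ := F.setting CoBig.tri_big.1 CoBig.tri_noTwo Y hYb
  haveI : Fintype (GaloisField 3 2) := Fintype.ofFinite _
  have hF : Fintype.card (GaloisField 3 2) = 9 := by
    rw [← Nat.card_eq_fintype_card, GaloisField.card 3 2 (by norm_num)]
    norm_num
  obtain ⟨N0, M0, hN0, hM0, hle, hcN, hiM, φ, hφ, hk⟩ := CoBig.tri_shape (GaloisField 3 2) hF
  exact ⟨z', R, hR, large_transfer hset iso (N0 := N0) (M0 := M0) hle hcN hiM (GaloisField 3 2) hF φ hφ hk⟩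

end Cfsg.Agent.Spor.MonsterLarge
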